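import Mathlib
import Groth.Agent.Approx60.GlueRings

/-! Products of localizations as filtered colimits of localizations of products. -/

set_option autoImplicit false
set_option linter.style.haveILetI false
universe u

open CategoryTheory CategoryTheory.Limits AlgebraicGeometry Opposite
open Groth.Agent.Approx60

namespace Groth.Agent.PiSpec3

attribute [-instance] CategoryTheory.pi

variable {ι : Type u} {A : ι → CommRingCat.{u}}

/-- The product ring. -/
abbrev Tot (A : ι → CommRingCat.{u}) : Type u := ∀ i, A i

/-- The open immersion of a principal open. -/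
noncomputable abbrev ar {R : Type u} [CommRing R] (x : R) :
    Spec (CommRingCat.of (Localization.Away x)) ⟶ Spec (CommRingCat.of R) :=
  Spec.map (CommRingCat.ofHom (algebraMap R (Localization.Away x)))

/-- The inclusion of a component. -/
noncomputable abbrev ev (i : ι) : Spec (A i) ⟶ Spec (CommRingCat.of (Tot A)) :=
  Spec.map (CommRingCat.ofHom (Pi.evalRingHom (fun j => (A j : Type u)) i))

/-- The map of localizations for a divisibility. -/
noncomputable def stepHom {R : Type u} [CommRing R] {x y : R} (h : x ∣ y) :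
    Localization.Away x →+* Localization.Away y :=
  IsLocalization.Away.lift x (g := algebraMap R (Localization.Away y))
    (isUnit_of_dvd_unit (map_dvd _ h) (IsLocalization.Away.algebraMap_isUnit y))

theorem stepHom_comp {R : Type u} [CommRing R] {x y : R} (h : x ∣ y) :
    (stepHom h).comp (algebraMap R (Localization.Away x)) = algebraMap R (Localization.Away y) :=
  IsLocalization.Away.lift_comp x _

/-- The map of principal opens for a divisibility. -/
noncomputable abbrev step {R : Type u} [CommRing R] {x y : R} (h : x ∣ y) :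
    Spec (CommRingCat.of (Localization.Away y)) ⟶ Spec (CommRingCat.of (Localization.Away x)) :=
  Spec.map (CommRingCat.ofHom (stepHom h))

theorem step_ar {R : Type u} [CommRing R] {x y : R} (h : x ∣ y) : step h ≫ ar x = ar y := by
  rw [← Spec.map_comp, ← CommRingCat.ofHom_comp, stepHom_comp]

/-- Componentwise powers. -/
def pw (a : Tot A) (M : ι → ℕ) : Tot A := fun i => a i ^ M i

theorem pw_dvd (a : Tot A) {M N : ι → ℕ} (h : M ≤ N) : pw a M ∣ pw a N :=
  ⟨fun i => a i ^ (N i - M i), funext fun i => by
    show a i ^ N i = a i ^ M i * a i ^ (N i - M i)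
    rw [← pow_add, Nat.add_sub_cancel' (h i)]⟩

/-- The product of the localizations. -/
abbrev Lim (a : Tot A) : Type u := ∀ i, Localization.Away (a i)

/-- The componentwise localization map. -/
noncomputable def locPi (a : Tot A) : Tot A →+* Lim a :=
  RingHom.pi fun i => (algebraMap (A i) (Localization.Away (a i))).comp (Pi.evalRingHom (fun j => (A j : Type u)) i)

theorem isUnit_locPi_pw (a : Tot A) (M : ι → ℕ) : IsUnit (locPi a (pw a M)) := by
  rw [Pi.isUnit_iff]
  intro i
  show IsUnit (algebraMap (A i) (Localization.Away (a i)) (a i ^ M i))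
  rw [map_pow]
  exact (IsLocalization.Away.algebraMap_isUnit (a i)).pow _

/-- The map from a stage to the product. -/
noncomputable def toLim (a : Tot A) (M : ι → ℕ) : Localization.Away (pw a M) →+* Lim a :=
  IsLocalization.Away.lift (pw a M) (isUnit_locPi_pw a M)

theorem toLim_comp (a : Tot A) (M : ι → ℕ) :
    (toLim a M).comp (algebraMap (Tot A) (Localization.Away (pw a M))) = locPi a :=
  IsLocalization.Away.lift_comp _ _

/-- The system of stages. -/
noncomputable def sys (a : Tot A) : (ι → ℕ) ⥤ CommRingCat.{u} where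
  obj M := CommRingCat.of (Localization.Away (pw a M))
  map h := CommRingCat.ofHom (stepHom (pw_dvd a (leOfHom h)))
  map_id M := CommRingCat.hom_ext (IsLocalization.ringHom_ext (Submonoid.powers (pw a M))
    (by simp [stepHom_comp]))
  map_comp {M N P} f g := CommRingCat.hom_ext (IsLocalization.ringHom_ext (Submonoid.powers (pw a M))
    (by simp [stepHom_comp, RingHom.comp_assoc]))

/-- The cocone of the product. -/
noncomputable def cocone (a : Tot A) : Cocone (sys a) where
  pt := CommRingCat.of (Lim a)
  ι :=
    { app := fun M => CommRingCat.ofHom (toLim a M)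
      naturality := fun M N h => CommRingCat.hom_ext (IsLocalization.ringHom_ext (S := Localization.Away (pw a M)) (Submonoid.powers (pw a M)) (by
        show ((toLim a N).comp (stepHom (pw_dvd a (leOfHom h)))).comp (algebraMap (Tot A) (Localization.Away (pw a M))) =
          ((RingHom.id _).comp (toLim a M)).comp (algebraMap (Tot A) (Localization.Away (pw a M)))
        rw [RingHom.comp_assoc, stepHom_comp, toLim_comp, RingHom.id_comp, toLim_comp])) }

theorem toLim_mk' (a : Tot A) (M : ι → ℕ) (b : Tot A) (k : ℕ) (i : ι) :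
    toLim a M (IsLocalization.mk' _ b (⟨pw a M ^ k, k, rfl⟩ : Submonoid.powers (pw a M))) i *
      algebraMap (A i) (Localization.Away (a i)) ((a i ^ M i) ^ k) =
      algebraMap (A i) (Localization.Away (a i)) (b i) := by
  have h := congrArg (toLim a M) (IsLocalization.mk'_spec (Localization.Away (pw a M)) b
    (⟨pw a M ^ k, k, rfl⟩ : Submonoid.powers (pw a M)))
  rw [map_mul, ← RingHom.comp_apply, ← RingHom.comp_apply, toLim_comp] at h
  exact congrFun h i

/-- The product is the colimit of the stages. -/
noncomputable def isColimit (a : Tot A) : IsColimit (cocone a) := by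
  haveI : ReflectsColimit (sys a) (forget CommRingCat) := reflectsColimit_of_reflectsIsomorphisms _ _
  refine isColimitOfReflects (forget CommRingCat) ?_
  refine Types.FilteredColimit.isColimitOf' _ _ (fun (x : Lim a) => ?_) fun M (x y : Localization.Away (pw a M)) h => ?_
  · choose b hb using fun i => IsLocalization.exists_mk'_eq (Submonoid.powers (a i)) (x i)
    choose s hs using hb
    choose n hn using fun i => (s i).2
    refine ⟨n, IsLocalization.mk' (Localization.Away (pw a n)) (fun i => b i) (⟨pw a n ^ 1, 1, rfl⟩ : Submonoid.powers (pw a n)), funext fun i => ?_⟩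
    show x i = toLim a n _ i
    have hu : IsUnit (algebraMap (A i) (Localization.Away (a i)) ((a i ^ n i) ^ 1)) := by
      rw [map_pow, map_pow]
      exact ((IsLocalization.Away.algebraMap_isUnit (a i)).pow _).pow _
    refine hu.mul_left_injective ?_
    show x i * algebraMap (A i) (Localization.Away (a i)) ((a i ^ n i) ^ 1) = _ * _
    rw [toLim_mk', pow_one, ← hs i, ← IsLocalization.mk'_spec (Localization.Away (a i)) (b i) (s i), ← hn i]
  · obtain ⟨bx, ⟨_, kx, rfl⟩, rfl⟩ := IsLocalization.exists_mk'_eq (Submonoid.powers (pw a M)) x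
    obtain ⟨bz, ⟨_, ky, rfl⟩, rfl⟩ := IsLocalization.exists_mk'_eq (Submonoid.powers (pw a M)) y
    have he : ∀ i, ∃ e : ℕ, a i ^ e * (bx i * (a i ^ M i) ^ ky) = a i ^ e * (bz i * (a i ^ M i) ^ kx) := by
      intro i
      have hi : algebraMap (A i) (Localization.Away (a i)) (bx i * (a i ^ M i) ^ ky) =
          algebraMap (A i) (Localization.Away (a i)) (bz i * (a i ^ M i) ^ kx) := by
        rw [map_mul, map_mul, ← toLim_mk' a M bx kx i, ← toLim_mk' a M bz ky i,
          show toLim a M (IsLocalization.mk' _ bx _) i = toLim a M (IsLocalization.mk' _ bz _) i from congrFun h i]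
        ring
      obtain ⟨⟨_, e, rfl⟩, he⟩ := (IsLocalization.eq_iff_exists (Submonoid.powers (a i)) _).mp hi
      exact ⟨e, he⟩
    choose e he using he
    have hMN : M ≤ fun i => M i + e i := fun i => Nat.le_add_right _ _
    refine ⟨_, homOfLE hMN, ?_⟩
    show stepHom (pw_dvd a hMN) _ = stepHom (pw_dvd a hMN) _
    let u : Submonoid.powers (pw a M) := ⟨pw a M ^ (kx + ky), kx + ky, rfl⟩
    have huu : IsUnit (stepHom (pw_dvd a hMN) (algebraMap (Tot A) _ (pw a M ^ (kx + ky)))) :=
      (IsLocalization.map_units (Localization.Away (pw a M)) u).map _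
    refine huu.mul_left_injective ?_
    have hk : ∀ (bb : Tot A) (k l : ℕ), IsLocalization.mk' (Localization.Away (pw a M)) bb (⟨pw a M ^ k, k, rfl⟩ : Submonoid.powers (pw a M)) *
        algebraMap (Tot A) (Localization.Away (pw a M)) (pw a M ^ (k + l)) = algebraMap (Tot A) (Localization.Away (pw a M)) (bb * pw a M ^ l) := by
      intro bb k l
      rw [pow_add, map_mul, ← mul_assoc, IsLocalization.mk'_spec, map_mul]
    show stepHom _ _ * _ = stepHom _ _ * _
    rw [← map_mul (stepHom (pw_dvd a hMN)), hk bx kx ky, ← map_mul (stepHom (pw_dvd a hMN)), add_comm kx ky, hk bz ky kx,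
      ← RingHom.comp_apply, ← RingHom.comp_apply, stepHom_comp]
    rw [IsLocalization.eq_iff_exists (Submonoid.powers (pw a fun i => M i + e i))]
    refine ⟨⟨_, 1, rfl⟩, funext fun i => ?_⟩
    show (a i ^ (M i + e i)) ^ 1 * (bx i * (a i ^ M i) ^ ky) = (a i ^ (M i + e i)) ^ 1 * (bz i * (a i ^ M i) ^ kx)
    rw [pow_one, pow_add, mul_assoc, he, ← mul_assoc]

/-- The map from a component to a stage. -/
noncomputable abbrev compMap (a : Tot A) (M : ι → ℕ) (i : ι) :
    Spec (CommRingCat.of (Localization.Away (a i))) ⟶ Spec (CommRingCat.of (Localization.Away (pw a M))) :=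
  Spec.map (CommRingCat.ofHom (Pi.evalRingHom (fun j => Localization.Away (a j)) i)) ≫ Spec.map (CommRingCat.ofHom (toLim a M))

theorem compMap_ar (a : Tot A) (M : ι → ℕ) (i : ι) : compMap a M i ≫ ar (pw a M) = ar (a i) ≫ ev i := by
  rw [Category.assoc, ← Spec.map_comp, ← CommRingCat.ofHom_comp, toLim_comp, ← Spec.map_comp,
    ← CommRingCat.ofHom_comp]
  show _ = Spec.map _ ≫ Spec.map _
  rw [← Spec.map_comp, ← CommRingCat.ofHom_comp]
  rfl

/-- Morphisms to a finitely presented affine scheme given on the components come from a stage. -/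
theorem exists_stage (a : Tot A) {U : Scheme.{u}} [IsAffine U] [LocallyOfFiniteType (toZ U)]
    (h : ∀ i, Spec (CommRingCat.of (Localization.Away (a i))) ⟶ U) :
    ∃ (M : ι → ℕ) (g : Spec (CommRingCat.of (Localization.Away (pw a M))) ⟶ U), ∀ i, compMap a M i ≫ g = h i := by
  obtain ⟨H, hH⟩ := pointsPi_surjective_of_isAffine (fun i => CommRingCat.of (Localization.Away (a i))) U h
  let D := (sys a).op ⋙ Scheme.Spec
  let c : Cone D := Scheme.Spec.mapCone (cocone a).op
  have hc : IsLimit c := isLimitOfPreserves Scheme.Spec (isColimit a).op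
  let t : D ⟶ (Functor.const _).obj (Spec (CommRingCat.of (ULift.{u} ℤ))) :=
    { app := fun M => toZ _, naturality := fun _ _ _ => specULiftZIsTerminal.hom_ext _ _ }
  haveI : IsNoetherianRing (ULift.{u} ℤ) := isNoetherianRing_of_ringEquiv ℤ ULift.ringEquiv.symm
  haveI : ∀ {M N} (f : M ⟶ N), IsAffineHom (D.map f) := fun {M N} f =>
    haveI : IsAffine (D.obj M) := inferInstanceAs (IsAffine (Spec _))
    haveI : IsAffine (D.obj N) := inferInstanceAs (IsAffine (Spec _))
    isAffineHom_of_isAffine _
  haveI : ∀ M, CompactSpace (D.obj M) := fun M => inferInstanceAs (CompactSpace (Spec _))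
  haveI : ∀ M, QuasiSeparatedSpace (D.obj M) := fun M => inferInstanceAs (QuasiSeparatedSpace (Spec _))
  obtain ⟨M, g, hg, -⟩ := Scheme.exists_π_app_comp_eq_of_locallyOfFinitePresentation D t (toZ U) c hc H
    (NatTrans.ext (funext fun M => specULiftZIsTerminal.hom_ext _ _))
  refine ⟨M.unop, g, fun i => ?_⟩
  rw [← congrFun hH i]
  show (Spec.map _ ≫ Spec.map _) ≫ g = Spec.map _ ≫ H
  rw [Category.assoc]
  exact congrArg _ hg

/-- Two morphisms equal on all components agree at a later stage. -/
theorem exists_stage_eq (a : Tot A) (M : ι → ℕ) {X : Scheme.{u}} [LocallyOfFiniteType (toZ X)]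
    (g g' : Spec (CommRingCat.of (Localization.Away (pw a M))) ⟶ X)
    (h : ∀ i, compMap a M i ≫ g = compMap a M i ≫ g') :
    ∃ (N : ι → ℕ) (hN : M ≤ N), step (pw_dvd a hN) ≫ g = step (pw_dvd a hN) ≫ g' := by
  haveI := quasiSeparatedSpace_of_lft_toZ X
  let D := (sys a).op ⋙ Scheme.Spec
  let c : Cone D := Scheme.Spec.mapCone (cocone a).op
  have hc : IsLimit c := isLimitOfPreserves Scheme.Spec (isColimit a).op
  let t : D ⟶ (Functor.const _).obj (Spec (CommRingCat.of (ULift.{u} ℤ))) :=
    { app := fun M => toZ _, naturality := fun _ _ _ => specULiftZIsTerminal.hom_ext _ _ }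
  haveI : ∀ {M N} (f : M ⟶ N), IsAffineHom (D.map f) := fun {M N} f =>
    haveI : IsAffine (D.obj M) := inferInstanceAs (IsAffine (Spec _))
    haveI : IsAffine (D.obj N) := inferInstanceAs (IsAffine (Spec _))
    isAffineHom_of_isAffine _
  haveI : ∀ M, CompactSpace (D.obj M) := fun M => inferInstanceAs (CompactSpace (Spec _))
  have hP : Spec.map (CommRingCat.ofHom (toLim a M)) ≫ g = Spec.map (CommRingCat.ofHom (toLim a M)) ≫ g' := by
    refine pointsPi_injective (fun i => CommRingCat.of (Localization.Away (a i))) X (funext fun i => ?_)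
    show Spec.map _ ≫ Spec.map _ ≫ g = Spec.map _ ≫ Spec.map _ ≫ g'
    rw [← Category.assoc, ← Category.assoc]
    exact h i
  obtain ⟨N, hN, e⟩ := Scheme.exists_hom_comp_eq_comp_of_locallyOfFiniteType D t (toZ X) c hc (i := op M) g g'
    (specULiftZIsTerminal.hom_ext _ _) (specULiftZIsTerminal.hom_ext _ _) hP
  exact ⟨N.unop, leOfHom hN.unop, e⟩

end Groth.Agent.PiSpec3
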