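import Mathlib
import Groth.Agent.Approx60.GlueRings
import Groth.Agent.PiSpec3.System

/-! Points of finite type schemes in products of rings. -/

set_option autoImplicit false
set_option linter.style.haveILetI false
universe u

open CategoryTheory CategoryTheory.Limits AlgebraicGeometry
open Groth.Agent.Approx60

namespace Groth.Agent.PiSpec3

variable {ι : Type u} {A : ι → CommRingCat.{u}}

theorem step_step {R : Type u} [CommRing R] {x y z : R} (h : x ∣ y) (h' : y ∣ z) :
    step h' ≫ step h = step (h.trans h') := by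
  rw [← cancel_mono (ar x), Category.assoc, step_ar, step_ar, step_ar]

theorem range_ar {R : Type u} [CommRing R] (x : R) :
    Set.range (ar x) = (PrimeSpectrum.basicOpen x : Set (PrimeSpectrum R)) :=
  PrimeSpectrum.localization_away_comap_range (Localization.Away x) x

/-- The component map of a principal open of the product. -/
noncomputable def evStep (x : Tot A) (i : ι) :
    Spec (CommRingCat.of (Localization.Away (x i))) ⟶ Spec (CommRingCat.of (Localization.Away x)) :=
  Spec.map (CommRingCat.ofHom (IsLocalization.Away.lift x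
    (g := (algebraMap (A i) (Localization.Away (x i))).comp (Pi.evalRingHom (fun j => (A j : Type u)) i))
    (show IsUnit (((algebraMap (A i) (Localization.Away (x i))).comp (Pi.evalRingHom (fun j => (A j : Type u)) i)) x) from
      IsLocalization.Away.algebraMap_isUnit (x i))))

theorem evStep_ar (x : Tot A) (i : ι) : evStep x i ≫ ar x = ar (x i) ≫ ev i := by
  rw [evStep, ← Spec.map_comp, ← CommRingCat.ofHom_comp, IsLocalization.Away.lift_comp]
  show _ = Spec.map _ ≫ Spec.map _
  rw [← Spec.map_comp, ← CommRingCat.ofHom_comp]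

theorem exists_partition {R : CommRingCat.{u}} {J : Type u} [Fintype J] (V : J → TopologicalSpace.Opens (Spec R))
    (hV : ∀ p : Spec R, ∃ j, p ∈ V j) :
    ∃ a : J → R, ∑ j, a j = 1 ∧ ∀ j, (PrimeSpectrum.basicOpen (a j) : Set (PrimeSpectrum R)) ⊆ (V j : Set (Spec R)) := by
  classical
  let I : J → Ideal R := fun j => PrimeSpectrum.vanishingIdeal ((V j : Set (Spec R))ᶜ : Set (PrimeSpectrum R))
  have hI : ⨆ j, I j = ⊤ := by
    by_contra hne
    obtain ⟨m, hm, hle⟩ := Ideal.exists_le_maximal _ hne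
    obtain ⟨j, hj⟩ := hV (⟨m, hm.isPrime⟩ : PrimeSpectrum R)
    have hc : IsClosed ((V j : Set (Spec R))ᶜ : Set (PrimeSpectrum R)) := (V j).isOpen.isClosed_compl
    have h1 : (⟨m, hm.isPrime⟩ : PrimeSpectrum R) ∈ PrimeSpectrum.zeroLocus (I j : Set R) :=
      (le_iSup I j).trans hle
    rw [PrimeSpectrum.zeroLocus_vanishingIdeal_eq_closure, hc.closure_eq] at h1
    exact h1 hj
  obtain ⟨μ, hμ⟩ := (Submodule.mem_iSup_iff_exists_finsupp I 1).mp (hI ▸ Submodule.mem_top)
  refine ⟨fun j => μ j, ?_, fun j p hp => ?_⟩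
  · rw [← hμ.2, Finsupp.sum_fintype _ _ (fun _ => rfl)]
  · by_contra hn
    exact hp ((PrimeSpectrum.mem_vanishingIdeal _ _).mp (hμ.1 j) p hn)

/-- A family of points comes from a point in the product. -/
theorem exists_glue {X : Scheme.{u}} [CompactSpace X] [LocallyOfFiniteType (toZ X)]
    (f : ∀ i, Spec (A i) ⟶ X) : ∃ g : Spec (CommRingCat.of (Tot A)) ⟶ X, ∀ i, ev i ≫ g = f i := by
  classical
  let 𝒰 := X.affineCover.finiteSubcover
  let J := 𝒰.I₀
  haveI : Fintype J := Fintype.ofFinite J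
  haveI : ∀ j : J, IsAffine (𝒰.X j) := fun j => inferInstanceAs (IsAffine (X.affineCover.X _))
  haveI : ∀ j : J, LocallyOfFiniteType (toZ (𝒰.X j)) := fun j => by
    rw [specULiftZIsTerminal.hom_ext (toZ (𝒰.X j)) (𝒰.f j ≫ toZ X)]; infer_instance
  choose a ha1 haV using fun i => exists_partition (fun j : J => (f i) ⁻¹ᵁ (𝒰.f j).opensRange)
    (fun p => ⟨𝒰.idx (f i p), 𝒰.covers (f i p)⟩)
  let col : J → Tot A := fun j i => a i j
  have hlift : ∀ j i, Set.range (ar (col j i) ≫ f i) ⊆ Set.range (𝒰.f j) := by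
    rintro j i _ ⟨p, rfl⟩
    exact haV i j (range_ar (col j i) ▸ Set.mem_range_self p)
  let h : ∀ j i, Spec (CommRingCat.of (Localization.Away (col j i))) ⟶ 𝒰.X j := fun j i =>
    IsOpenImmersion.lift (𝒰.f j) (ar (col j i) ≫ f i) (hlift j i)
  choose M g₀ hg₀ using fun j => exists_stage (col j) (h j)
  obtain ⟨G, hG⟩ : ∃ G : ∀ j, Spec (CommRingCat.of (Localization.Away (pw (col j) (M j)))) ⟶ X,
      ∀ j i, compMap (col j) (M j) i ≫ G j = ar (col j i) ≫ f i :=
    ⟨fun j => g₀ j ≫ 𝒰.f j, fun j i => by rw [← Category.assoc, hg₀, IsOpenImmersion.lift_fac]⟩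
  have hd : ∀ (x y : Tot A) (P Q : ι → ℕ), P ≤ Q → pw x P ∣ pw (x * y) Q ∧ pw x P ∣ pw (y * x) Q := by
    refine fun x y P Q hPQ => ⟨(pw_dvd x hPQ).trans ⟨pw y Q, ?_⟩, (pw_dvd x hPQ).trans ⟨pw y Q, ?_⟩⟩ <;>
    · funext i; simp only [pw, Pi.mul_apply, mul_pow]; try ring
  let M' : J → J → ι → ℕ := fun j k => M j ⊔ M k
  let d1 := fun j k => (hd (col j) (col k) (M j) (M' j k) le_sup_left).1
  let d2 := fun j k => (hd (col k) (col j) (M k) (M' j k) le_sup_right).2
  have key : ∀ (j : J) (b : Tot A) (P : ι → ℕ) (h : pw (col j) (M j) ∣ pw b P), (∀ i, col j i ∣ b i) →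
      ∀ i, compMap b P i ≫ step h ≫ G j = ar (b i) ≫ f i := by
    intro j b P hh hb i
    have e : compMap b P i ≫ step hh = step (hb i) ≫ compMap (col j) (M j) i := by
      rw [← cancel_mono (ar (pw (col j) (M j))), Category.assoc, step_ar, compMap_ar, Category.assoc, compMap_ar,
        ← Category.assoc, step_ar]
    rw [← Category.assoc, e, Category.assoc, hG, ← Category.assoc, step_ar]
  choose N hN hNeq using fun j k => exists_stage_eq (col j * col k) (M' j k) (step (d1 j k) ≫ G j) (step (d2 j k) ≫ G k)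
    (fun i => by
      rw [key j _ _ (d1 j k) (fun i => dvd_mul_right _ _) i, key k _ _ (d2 j k) (fun i => dvd_mul_left _ _) i])
  let E : ι → ℕ := fun i => (∑ j, M j i) + (∑ p : J × J, N p.1 p.2 i) + 1
  have hspan : ∀ i, Ideal.span (Set.range (a i)) = ⊤ := fun i => by
    rw [Ideal.eq_top_iff_one, ← ha1 i]
    exact Ideal.sum_mem _ fun j _ => Ideal.subset_span ⟨j, rfl⟩
  have hc : ∀ i, ∃ c : J → A i, ∑ j, c j * a i j ^ E i = 1 := fun i => by
    refine Ideal.mem_span_range_iff_exists_fun.mp ?_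
    have := Ideal.span_pow_eq_top _ (hspan i) (E i)
    rw [← Set.range_comp] at this
    exact (Ideal.eq_top_iff_one _).mp this
  choose c hc using hc
  let x : J → Tot A := fun j i => c i j * a i j ^ E i
  have hx1 : ∑ j, x j = 1 := funext fun i => by rw [Finset.sum_apply]; exact hc i
  have hxspan : Ideal.span (Set.range x) = ⊤ := by
    rw [Ideal.eq_top_iff_one, ← hx1]
    exact Ideal.sum_mem _ fun j _ => Ideal.subset_span ⟨j, rfl⟩
  have hxM : ∀ j, pw (col j) (M j) ∣ x j := fun j => by
    refine (pw_dvd (col j) (N := E) fun i => ?_).trans ⟨fun i => c i j, funext fun i => mul_comm _ _⟩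
    exact ((Finset.single_le_sum (f := fun j => M j i) (fun _ _ => Nat.zero_le _) (Finset.mem_univ j)).trans
      (Nat.le_add_right _ _)).trans (Nat.le_add_right _ _)
  have hxN : ∀ j k, pw (col j * col k) (N j k) ∣ x j * x k := fun j k => by
    refine (pw_dvd _ (N := E) fun i => ?_).trans ⟨fun i => c i j * c i k, funext fun i => ?_⟩
    · exact ((Finset.single_le_sum (f := fun p : J × J => N p.1 p.2 i) (fun _ _ => Nat.zero_le _) (Finset.mem_univ (j, k))).trans
        (Nat.le_add_left _ _)).trans (Nat.le_add_right _ _)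
    · show c i j * a i j ^ E i * (c i k * a i k ^ E i) = (a i j * a i k) ^ E i * _
      rw [mul_pow]; ring
  let 𝒱 := (Scheme.affineOpenCoverOfSpanRangeEqTop (R := CommRingCat.of (Tot A)) x hxspan).openCover
  let F : ∀ j : J, Spec (CommRingCat.of (Localization.Away (x j))) ⟶ X := fun j => step (hxM j) ≫ G j
  have hF : ∀ j k, step (dvd_mul_right (x j) (x k)) ≫ F j = step (dvd_mul_left (x k) (x j)) ≫ F k := by
    intro j k
    show _ ≫ step _ ≫ G j = _ ≫ step _ ≫ G k
    rw [← Category.assoc, step_step, ← Category.assoc, step_step]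
    have := congrArg (step (hxN j k) ≫ ·) (hNeq j k)
    simp only [← Category.assoc, step_step] at this
    exact this
  obtain ⟨g, hg⟩ : ∃ g : Spec (CommRingCat.of (Tot A)) ⟶ X, ∀ j, ar (x j) ≫ g = F j := by
    refine ⟨Scheme.Cover.glueMorphisms 𝒱 F ?_, fun j => Scheme.Cover.ι_glueMorphisms 𝒱 F _ j⟩
    intro j k
    show pullback.fst (ar (x j)) (ar (x k)) ≫ F j = pullback.snd (ar (x j)) (ar (x k)) ≫ F k
    have hr : Set.range (pullback.fst (ar (x j)) (ar (x k)) ≫ ar (x j)) ⊆ Set.range (ar (x j * x k)) := by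
      rw [range_ar]
      rintro _ ⟨p, rfl⟩
      rw [PrimeSpectrum.basicOpen_mul]
      refine ⟨range_ar (x j) ▸ Set.mem_range_self (pullback.fst (ar (x j)) (ar (x k)) p), ?_⟩
      rw [pullback.condition]
      exact range_ar (x k) ▸ Set.mem_range_self (pullback.snd (ar (x j)) (ar (x k)) p)
    let l := IsOpenImmersion.lift (ar (x j * x k)) _ hr
    have h1 : pullback.fst (ar (x j)) (ar (x k)) = l ≫ step (dvd_mul_right (x j) (x k)) := by
      rw [← cancel_mono (ar (x j)), Category.assoc, step_ar, IsOpenImmersion.lift_fac]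
    have h2 : pullback.snd (ar (x j)) (ar (x k)) = l ≫ step (dvd_mul_left (x k) (x j)) := by
      rw [← cancel_mono (ar (x k)), Category.assoc, step_ar, IsOpenImmersion.lift_fac, pullback.condition]
    rw [h1, h2, Category.assoc, Category.assoc]
    exact congrArg (l ≫ ·) (hF j k)
  refine ⟨g, fun i => ?_⟩
  have hxi : Ideal.span (Set.range fun j => x j i) = ⊤ := by
    rw [Ideal.eq_top_iff_one, ← hc i]
    exact Ideal.sum_mem _ fun j _ => Ideal.subset_span ⟨j, rfl⟩
  refine Scheme.Cover.hom_ext (Scheme.affineOpenCoverOfSpanRangeEqTop (R := A i) (fun j => x j i) hxi).openCover _ _ fun (j : J) => ?_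
  show ar (x j i) ≫ ev i ≫ _ = ar (x j i) ≫ f i
  rw [← Category.assoc, ← evStep_ar, Category.assoc]
  refine (congrArg (evStep (x j) i ≫ ·) (hg j)).trans ?_
  have hdiv : col j i ∣ x j i := Dvd.dvd.mul_left (dvd_pow_self (a i j) (Nat.succ_ne_zero _)) (c i j)
  have e : evStep (x j) i ≫ step (hxM j) = step hdiv ≫ compMap (col j) (M j) i := by
    rw [← cancel_mono (ar (pw (col j) (M j))), Category.assoc, step_ar, evStep_ar, Category.assoc, compMap_ar,
      ← Category.assoc, step_ar]
  show evStep (x j) i ≫ step _ ≫ G j = _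
  rw [← Category.assoc, e, Category.assoc, hG, ← Category.assoc, step_ar]

end Groth.Agent.PiSpec3
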